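import Mathlib
import Groth.Agent.S0506
import Groth.Agent.S0511
import Groth.Agent.S9237
import Groth.Agent.H14.HensProp.HhToHsh2

/-!
# The normalisation of a Noetherian reduced local ring is semilocal
-/

set_option autoImplicit false

universe u

namespace Groth.Agent.H78.NormSemilocal

open IsLocalRing

/-- The integral closure of a Noetherian reduced local ring in its total ring of fractions has
only finitely many maximal ideals (via the count of minimal primes of the henselisation). -/
theorem finite_maximalSpectrum_integralClosure (E : Type u) [CommRing E] [IsLocalRing E]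
    [IsNoetherianRing E] [IsReduced E] :
    Finite (MaximalSpectrum (integralClosure E (FractionRing E))) := by
  obtain ⟨S, _, _, _, _, hS⟩ := Groth.Agent.S0506.result E
  haveI := hS
  haveI : IsNoetherianRing S := (Groth.Agent.S0511.result E S).mp inferInstance
  have h1 : ENat.card (minimalPrimes S) = Brnch.numBranches E := Groth.Agent.S9237.result E S
  have hminE : (minimalPrimes E).Finite := minimalPrimes.finite_of_isNoetherianRing E
  have hminS : (minimalPrimes S).Finite := minimalPrimes.finite_of_isNoetherianRing S
  have h2 : Brnch.numBranches E = ENat.card (MaximalSpectrum (CAlg2.normRed E)) := by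
    unfold Brnch.numBranches
    rw [if_pos hminE]
  haveI : Finite (minimalPrimes S) := hminS.to_subtype
  have h3 : ENat.card (MaximalSpectrum (CAlg2.normRed E)) < ⊤ := by
    rw [← h2, ← h1]
    exact ENat.card_lt_top_of_finite
  haveI h4 : Finite (MaximalSpectrum (CAlg2.normRed E)) := ENat.card_lt_top.mp h3
  let e := Groth.Agent.H14.HensProp.HhToHsh.normRingEquiv E
  let g : MaximalSpectrum (integralClosure E (FractionRing E)) →
      MaximalSpectrum (CAlg2.normRed E) := fun M =>
    ⟨M.asIdeal.comap (e.symm : CAlg2.normRed E →+* integralClosure E (FractionRing E)),
      Ideal.comap_isMaximal_of_surjective _ e.symm.surjective (K := M.asIdeal) (H := M.isMaximal)⟩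
  have hg : Function.Injective g := by
    intro M N hMN
    have h5 : M.asIdeal.comap (e.symm : CAlg2.normRed E →+* integralClosure E (FractionRing E)) =
        N.asIdeal.comap (e.symm : CAlg2.normRed E →+* integralClosure E (FractionRing E)) :=
      congrArg MaximalSpectrum.asIdeal hMN
    apply MaximalSpectrum.ext
    exact Ideal.comap_injective_of_surjective _ e.symm.surjective h5
  exact Finite.of_injective g hg

end Groth.Agent.H78.NormSemilocal
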