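import Mathlib

/-!
# Residue fields of integral extensions of quasi-finite local algebras are algebraic
-/

set_option autoImplicit false

universe u

namespace Groth.Agent.H78.NormSemilocal

open IsLocalRing Polynomial

section

variable (A E B : Type u) [CommRing A] [IsLocalRing A] [CommRing E]
    [IsLocalRing E] [Algebra A E] [IsLocalHom (algebraMap A E)]
    [CommRing B] [Algebra E B] [Algebra A B] [IsScalarTower A E B] [Algebra.IsIntegral E B]

include E in
/-- A maximal ideal of an integral extension of a local `A`-algebra `E` (local structure map)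
lies over the maximal ideal of `A`. -/
theorem comap_eq_maximalIdeal (M : Ideal B) [hM : M.IsMaximal] :
    M.comap (algebraMap A B) = maximalIdeal A := by
  haveI hP : (M.comap (algebraMap E B)).IsMaximal :=
    Ideal.isMaximal_comap_of_isIntegral_of_isMaximal (R := E) M
  have hPeq : M.comap (algebraMap E B) = maximalIdeal E := IsLocalRing.eq_maximalIdeal hP
  rw [IsScalarTower.algebraMap_eq A E B, ← Ideal.comap_comap, hPeq]
  exact IsLocalRing.maximalIdeal_comap (algebraMap A E)

/-- Modulo a maximal ideal of an integral extension `B` of a quasi-finite local `A`-algebra `E`,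
every element of `B` satisfies a monic polynomial with coefficients in `A`. -/
theorem exists_monic_aeval_mem [Algebra.QuasiFinite A E] (M : Ideal B) [hM : M.IsMaximal] (b : B) :
    ∃ q : A[X], q.Monic ∧ Polynomial.aeval b q ∈ M := by
  set P : Ideal E := M.comap (algebraMap E B) with hPdef
  haveI hP : P.IsMaximal := Ideal.isMaximal_comap_of_isIntegral_of_isMaximal (R := E) M
  have hPeq : P = maximalIdeal E := IsLocalRing.eq_maximalIdeal hP
  set p : Ideal A := P.comap (algebraMap A E) with hpdef
  have hpeq : p = maximalIdeal A := by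
    rw [hpdef, hPeq]
    exact IsLocalRing.maximalIdeal_comap (algebraMap A E)
  haveI hp : p.IsMaximal := hpeq ▸ IsLocalRing.maximalIdeal.isMaximal A
  -- the tower A → A/p → E/P → B/M
  haveI : IsScalarTower A (A ⧸ p) (E ⧸ P) := IsScalarTower.of_algebraMap_eq (fun a => rfl)
  haveI : IsScalarTower A (E ⧸ P) (B ⧸ M) := IsScalarTower.of_algebraMap_eq (fun a => by
    rw [IsScalarTower.algebraMap_apply A E (E ⧸ P)]
    rw [IsScalarTower.algebraMap_apply A B (B ⧸ M), IsScalarTower.algebraMap_apply A E B]
    rfl)
  haveI : Algebra.QuasiFinite A (E ⧸ P) := inferInstance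
  haveI : Algebra.QuasiFinite (A ⧸ p) (E ⧸ P) := Algebra.QuasiFinite.of_restrictScalars A _ _
  letI : Field (A ⧸ p) := Ideal.Quotient.field p
  haveI : Module.Finite (A ⧸ p) (E ⧸ P) := Module.Finite.of_quasiFinite
  haveI : Algebra.IsIntegral (A ⧸ p) (E ⧸ P) := Algebra.IsIntegral.of_finite _ _
  haveI : Algebra.IsIntegral A (A ⧸ p) :=
    Algebra.isIntegral_of_surjective Ideal.Quotient.mk_surjective
  haveI : Algebra.IsIntegral A (E ⧸ P) := Algebra.IsIntegral.trans (A ⧸ p)
  haveI : Algebra.IsIntegral (E ⧸ P) (B ⧸ M) := Algebra.IsIntegral.quotient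
  haveI : Algebra.IsIntegral A (B ⧸ M) := Algebra.IsIntegral.trans (E ⧸ P)
  obtain ⟨q, hq, hq0⟩ := Algebra.IsIntegral.isIntegral (R := A) (Ideal.Quotient.mk M b)
  refine ⟨q, hq, ?_⟩
  rw [← Ideal.Quotient.eq_zero_iff_mem]
  rw [← hq0]
  rw [Polynomial.aeval_def, Polynomial.hom_eval₂]
  rfl

end

end Groth.Agent.H78.NormSemilocal
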