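import Mathlib
import Groth.Prelude.Def_EssEt
import Groth.Agent.H78.TotFrac.Sub
import Groth.Agent.H78.NormSemilocal.FiniteMax
import Groth.Agent.H78.NormSemilocal.Residue
import Groth.Agent.H47.SmoothReduced

/-!
# `L ⊓ E'` is normal and semilocal (S16447)
-/

set_option autoImplicit false

universe u

namespace Groth.Agent.H78.NormSemilocal

open IsLocalRing Polynomial

/-- An essentially étale local algebra over a Noetherian reduced local ring is Noetherian and
reduced. -/
theorem noetherian_reduced_of_isEssentiallyEtale (A E : Type u) [CommRing A] [IsLocalRing A]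
    [IsReduced A] [IsNoetherianRing A] [CommRing E] [Algebra A E]
    (hE : EGA4loc.IsEssentiallyEtale A E) : IsNoetherianRing E ∧ IsReduced E := by
  obtain ⟨C, _, _, q, hq, hCet, hqcomap, ⟨eE⟩⟩ := hE
  haveI : IsNoetherianRing C := Algebra.FiniteType.isNoetherianRing A C
  haveI : IsReduced C := Groth.Agent.H47.isReduced_of_etale A C
  haveI : IsNoetherianRing (Localization.AtPrime q) :=
    IsLocalization.isNoetherianRing q.primeCompl _ inferInstance
  haveI : IsReduced (Localization.AtPrime q) := inferInstance
  exact ⟨isNoetherianRing_of_ringEquiv _ eE.symm.toRingEquiv,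
    isReduced_of_injective eE.toRingEquiv.toRingHom eE.injective⟩

section Abstract

variable (A E F : Type u) [CommRing A] [IsLocalRing A] [CommRing E] [IsLocalRing E] [Algebra A E]
  [IsLocalHom (algebraMap A E)] [CommRing F] [Algebra E F] [Algebra A F] [IsScalarTower A E F]

/-- the `E`-algebra structure on the integral closure of `E` in `F` viewed as an `A`-subalgebra -/
noncomputable def algRestrict : Algebra E ((integralClosure E F).restrictScalars A) :=
  inferInstanceAs (Algebra E (integralClosure E F))

attribute [local instance] algRestrict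

theorem isScalarTower_restrict : IsScalarTower A E ((integralClosure E F).restrictScalars A) :=
  IsScalarTower.of_algebraMap_eq (fun a => by
    apply Subtype.ext
    exact IsScalarTower.algebraMap_apply A E F a)

theorem isIntegral_restrict : Algebra.IsIntegral E ((integralClosure E F).restrictScalars A) :=
  inferInstanceAs (Algebra.IsIntegral E (integralClosure E F))

theorem finite_restrict (hfin : Finite (MaximalSpectrum (integralClosure E F))) :
    Finite (MaximalSpectrum ((integralClosure E F).restrictScalars A)) := hfin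

variable {A E F}

theorem abstract_main [Algebra.QuasiFinite A E]
    (hfin : Finite (MaximalSpectrum (integralClosure E F)))
    (L : Subalgebra A F) (hinv : ∀ x ∈ L, IsUnit x → ∃ y ∈ L, x * y = 1)
    (C : Subalgebra A F)
    (hC : C = L ⊓ (integralClosure E F).restrictScalars A) :
    (∀ x ∈ L, IsIntegral C x → x ∈ C) ∧
      {N : Ideal C | N.IsMaximal}.Finite ∧
      (∀ N : Ideal C, N.IsMaximal ↔
        ∃ M : Ideal ((integralClosure E F).restrictScalars A),
          M.IsMaximal ∧ N = M.comap (Subalgebra.inclusion (hC.trans_le inf_le_right))) := by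
  classical
  have hmemR : ∀ x : F, x ∈ (integralClosure E F).restrictScalars A ↔ IsIntegral E x :=
    fun x => Iff.rfl
  have hmemC : ∀ x : F, x ∈ C ↔ x ∈ L ∧ IsIntegral E x := by
    intro x
    rw [hC]
    exact Iff.rfl
  set ι : C →ₐ[A] ((integralClosure E F).restrictScalars A) :=
    Subalgebra.inclusion (hC.trans_le inf_le_right) with hι
  haveI := isScalarTower_restrict A E F
  haveI := isIntegral_restrict A E F
  haveI hfinMS := finite_restrict A E F hfin
  have hfinR : {M : Ideal ((integralClosure E F).restrictScalars A) | M.IsMaximal}.Finite := by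
    have : {M : Ideal ((integralClosure E F).restrictScalars A) | M.IsMaximal} =
        Set.range (fun m : MaximalSpectrum ((integralClosure E F).restrictScalars A) =>
          m.asIdeal) := by
      ext M
      constructor
      · intro hM
        exact ⟨⟨M, hM⟩, rfl⟩
      · rintro ⟨m, rfl⟩
        exact m.isMaximal
    rw [this]
    exact Set.finite_range _
  -- K1: units
  have K1 : ∀ c : C, IsUnit (ι c) → IsUnit c := by
    intro c hc
    obtain ⟨u, hu⟩ := hc
    have h1 : (c : F) * ((↑(u⁻¹) : (integralClosure E F).restrictScalars A) : F) = 1 := by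
      have := congrArg (Subtype.val) (Units.mul_inv u)
      rw [hu] at this
      exact this
    have hcu : IsUnit (c : F) := IsUnit.of_mul_eq_one _ h1
    obtain ⟨y, hy, hcy⟩ := hinv (c : F) ((hmemC _).mp c.2).1 hcu
    have hyeq : y = ((↑(u⁻¹) : (integralClosure E F).restrictScalars A) : F) :=
      hcu.mul_left_cancel (hcy.trans h1.symm)
    have hyC : y ∈ C := by
      rw [hmemC]
      refine ⟨hy, ?_⟩
      rw [hyeq]
      exact (hmemR _).mp (↑(u⁻¹) : (integralClosure E F).restrictScalars A).2
    refine IsUnit.of_mul_eq_one (⟨y, hyC⟩ : C) ?_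
    apply Subtype.ext
    exact hcy
  -- K2: contractions of maximal ideals are maximal
  have K2 : ∀ M : Ideal ((integralClosure E F).restrictScalars A), M.IsMaximal →
      (M.comap ι).IsMaximal := by
    intro M hM
    haveI := hM
    set N : Ideal C := M.comap ι with hN
    haveI hNprime : N.IsPrime := Ideal.comap_isPrime ι M
    haveI : IsDomain (C ⧸ N) := Ideal.Quotient.isDomain N
    haveI hint : Algebra.IsIntegral A (C ⧸ N) := by
      constructor
      intro x
      obtain ⟨c, rfl⟩ := Ideal.Quotient.mk_surjective x
      obtain ⟨q, hq, hqM⟩ := exists_monic_aeval_mem A E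
        ((integralClosure E F).restrictScalars A) M (ι c)
      refine ⟨q, hq, ?_⟩
      have h1 : Polynomial.aeval c q ∈ N := by
        rw [hN, Ideal.mem_comap, ← Polynomial.aeval_algHom_apply]
        exact hqM
      have h2 : Polynomial.aeval (Ideal.Quotient.mk N c) q = 0 := by
        have := Polynomial.aeval_algHom_apply (Ideal.Quotient.mkₐ A N) c q
        rw [Ideal.Quotient.mkₐ_eq_mk] at this
        rw [this]
        exact Ideal.Quotient.eq_zero_iff_mem.mpr h1
      rw [← Polynomial.aeval_def]
      exact h2
    have hcomap : (⊥ : Ideal (C ⧸ N)).comap (algebraMap A (C ⧸ N)) = maximalIdeal A := by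
      rw [← comap_eq_maximalIdeal A E ((integralClosure E F).restrictScalars A) M]
      ext a
      rw [Ideal.mem_comap, Ideal.mem_comap, Ideal.mem_bot,
        IsScalarTower.algebraMap_apply A C (C ⧸ N), Ideal.Quotient.algebraMap_eq,
        Ideal.Quotient.eq_zero_iff_mem, hN, Ideal.mem_comap, AlgHom.commutes]
    have hbot : (⊥ : Ideal (C ⧸ N)).IsMaximal := by
      haveI hnt : Nontrivial (C ⧸ N) := Ideal.Quotient.nontrivial_iff.mpr hNprime.ne_top
      haveI hnzd : NoZeroDivisors (C ⧸ N) := Ideal.Quotient.noZeroDivisors N
      haveI : (⊥ : Ideal (C ⧸ N)).IsPrime := @Ideal.isPrime_bot _ _ hnt hnzd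
      exact Ideal.isMaximal_of_isIntegral_of_isMaximal_comap (R := A) (S := C ⧸ N) ⊥ (by
        rw [hcomap]
        exact IsLocalRing.maximalIdeal.isMaximal A)
    have : N = (⊥ : Ideal (C ⧸ N)).comap (Ideal.Quotient.mk N) := by
      rw [← RingHom.ker_eq_comap_bot, Ideal.mk_ker]
    rw [this]
    exact Ideal.comap_isMaximal_of_surjective _ Ideal.Quotient.mk_surjective
  -- K3
  have K3 : ∀ N : Ideal C, N.IsMaximal →
      ∃ M : Ideal ((integralClosure E F).restrictScalars A), M.IsMaximal ∧ N = M.comap ι := by
    intro N hN
    by_contra hcon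
    push Not at hcon
    have hnotle : ∀ M : Ideal ((integralClosure E F).restrictScalars A), M.IsMaximal →
        ¬ (N ≤ M.comap ι) := by
      intro M hM hle
      exact hcon M hM (hN.eq_of_le (K2 M hM).ne_top hle)
    have hsub : ¬ ((N : Set C) ⊆ ⋃ M ∈ (hfinR.toFinset :
        Set (Ideal ((integralClosure E F).restrictScalars A))), (M.comap ι : Set C)) := by
      intro hsub
      have := (Ideal.subset_union_prime (s := hfinR.toFinset)
        (f := fun M : Ideal ((integralClosure E F).restrictScalars A) => M.comap ι)
        (⊥ : Ideal ((integralClosure E F).restrictScalars A))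
        (⊥ : Ideal ((integralClosure E F).restrictScalars A)) (fun M hM _ _ => by
          have hM' : M.IsMaximal := by simpa using hM
          exact (K2 M hM').isPrime) (I := N)).mp hsub
      obtain ⟨M, hM, hle⟩ := this
      have hM' : M.IsMaximal := by simpa using hM
      exact hnotle M hM' hle
    rw [Set.not_subset] at hsub
    obtain ⟨c, hcN, hcnot⟩ := hsub
    have hunit : IsUnit (ι c) := by
      by_contra hnu
      obtain ⟨M, hM, hcM⟩ := exists_max_ideal_of_mem_nonunits (mem_nonunits_iff.mpr hnu)
      apply hcnot
      simp only [Set.mem_iUnion]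
      refine ⟨M, ?_, ?_⟩
      · simpa using hM
      · exact hcM
    have hcu : IsUnit c := K1 c hunit
    exact hN.ne_top (Ideal.eq_top_of_isUnit_mem _ hcN hcu)
  refine ⟨?_, ?_, ?_⟩
  · -- (a)
    intro x hx hint
    rw [hmemC]
    refine ⟨hx, ?_⟩
    let j : C →+* integralClosure E F :=
      { toFun := fun c => ⟨c.1, ((hmemC _).mp c.2).2⟩
        map_one' := rfl
        map_mul' := fun _ _ => rfl
        map_zero' := rfl
        map_add' := fun _ _ => rfl }
    have hcomp : (algebraMap (integralClosure E F) F).comp j = algebraMap C F :=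
      RingHom.ext fun c => rfl
    have h1 : (algebraMap C F).IsIntegralElem x := hint
    rw [← hcomp] at h1
    have h2 : IsIntegral (integralClosure E F) x := RingHom.IsIntegralElem.of_comp h1
    exact isIntegral_trans (R := E) x h2
  · -- (b)
    refine Set.Finite.subset (hfinR.image
      (fun M : Ideal ((integralClosure E F).restrictScalars A) => M.comap ι)) ?_
    intro N hN
    obtain ⟨M, hM, hNM⟩ := K3 N hN
    exact ⟨M, hM, hNM.symm⟩
  · -- (c)
    intro N
    constructor
    · intro hN
      exact K3 N hN
    · rintro ⟨M, hM, rfl⟩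
      exact K2 M hM

end Abstract

/-- S16447 -/
theorem main
    (A E : Type u) [CommRing A] [IsLocalRing A] [IsReduced A] [IsNoetherianRing A]
    [CommRing E] [IsLocalRing E] [Algebra A E] [IsLocalHom (algebraMap A E)]
    (hE : EGA4loc.IsEssentiallyEtale A E) (L : Subalgebra A (FractionRing E))
    (hL : ∀ s ∈ nonZeroDivisors A, ∃ y ∈ L, algebraMap A (FractionRing E) s * y = 1)
    (C : Subalgebra A (FractionRing E))
    (hC : C = L ⊓ (integralClosure E (FractionRing E)).restrictScalars A) :
    (∀ x ∈ L, IsIntegral C x → x ∈ C) ∧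
      {N : Ideal C | N.IsMaximal}.Finite ∧
      (∀ N : Ideal C, N.IsMaximal ↔
        ∃ M : Ideal ((integralClosure E (FractionRing E)).restrictScalars A),
          M.IsMaximal ∧ N = M.comap (Subalgebra.inclusion (hC.trans_le inf_le_right))) ∧
      ∀ l ∈ L, ∃ c ∈ C, ∃ s ∈ nonZeroDivisors A, ∃ y ∈ L,
        algebraMap A (FractionRing E) s * y = 1 ∧ l = c * y := by
  classical
  have hmin : (minimalPrimes A).Finite := minimalPrimes.finite_of_isNoetherianRing A
  obtain ⟨hflat, hqf⟩ := Groth.Agent.H78.TotFrac.flat_quasiFinite_of_isEssentiallyEtale A E hE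
  obtain ⟨hEN, hER⟩ := noetherian_reduced_of_isEssentiallyEtale A E hE
  haveI hloc : IsLocalization ((nonZeroDivisors A).map (algebraMap A E)) (FractionRing E) :=
    (Groth.Agent.H78.TotFrac.main_abstract A E hmin).1
  have hmemC : ∀ x : FractionRing E, x ∈ C ↔ x ∈ L ∧ IsIntegral E x := by
    intro x
    rw [hC]
    exact Iff.rfl
  obtain ⟨ha, hb, hc⟩ := abstract_main (A := A) (E := E) (F := FractionRing E)
    (finite_maximalSpectrum_integralClosure E) L
    (fun x hx hxu => Groth.Agent.H78.TotFrac.exists_inv_mem A E hmin (FractionRing E) L hL x hx hxu)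
    C hC
  refine ⟨ha, hb, hc, ?_⟩
  intro l hl
  obtain ⟨D, hD, _, _, hDl⟩ := Groth.Agent.H78.TotFrac.main_sub A E hmin hE L hL
  obtain ⟨d, hd, s, hs, y, hy, hsy, hly⟩ := hDl l hl
  refine ⟨algebraMap E (FractionRing E) d, ?_, s, hs, y, hy, hsy, hly⟩
  rw [hmemC]
  constructor
  · have : d ∈ (D : Set E) := hd
    rw [hD] at this
    exact this
  · exact isIntegral_algebraMap

end Groth.Agent.H78.NormSemilocal
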